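import Cfsg.Agent.Lib.H35.NF24.M_l
import Cfsg.Agent.Lib.H35.NF24.M_k
import Cfsg.Agent.Lib.H35.NF24.M_a
import Cfsg.Agent.Lib.H35.NF24.M_b
import Cfsg.Agent.Lib.H35.NF24.M_c
import Cfsg.Agent.Lib.H35.NF24.M_d
import Cfsg.Agent.Lib.H35.NF24.M_e
import Cfsg.Agent.Lib.H35.NF24.M_f
import Cfsg.Agent.Lib.H35.NF24.M_g
import Cfsg.Agent.Lib.H35.NF24.M_j
import Cfsg.Agent.Lib.H35.NF24.M_h
import Cfsg.Agent.Lib.H35.NF24.M_i
import Cfsg.Agent.Lib.H35.TCF24A.Chk
import Cfsg.Agent.Lib.H35.SegKit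
set_option autoImplicit false
set_option maxRecDepth 100000
set_option linter.all false
set_option Elab.async false
namespace H35.NF24
open H35.TC H35.Net
open H35.TCF24A (Lt inv mm extra subs)
/-- network -/
noncomputable def nl_l : List (ℕ × ℕ) := [(nat_lit 262144, m_l_0), (nat_lit 131072, m_l_1), (nat_lit 65536, m_l_2), (nat_lit 32768, m_l_3), (nat_lit 16384, m_l_4), (nat_lit 8192, m_l_5), (nat_lit 4096, m_l_6), (nat_lit 2048, m_l_7), (nat_lit 1024, m_l_8), (nat_lit 512, m_l_9), (nat_lit 256, m_l_10), (nat_lit 128, m_l_11), (nat_lit 64, m_l_12), (nat_lit 32, m_l_13), (nat_lit 16, m_l_14), (nat_lit 8, m_l_15), (nat_lit 4, m_l_16), (nat_lit 2, m_l_17), (nat_lit 1, m_l_18), (nat_lit 2, m_l_19), (nat_lit 4, m_l_20), (nat_lit 8, m_l_21), (nat_lit 16, m_l_22), (nat_lit 32, m_l_23), (nat_lit 64, m_l_24), (nat_lit 128, m_l_25), (nat_lit 256, m_l_26), (nat_lit 512, m_l_27), (nat_lit 1024, m_l_28), (nat_lit 2048,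 m_l_29), (nat_lit 4096, m_l_30), (nat_lit 8192, m_l_31), (nat_lit 16384, m_l_32), (nat_lit 32768, m_l_33), (nat_lit 65536, m_l_34), (nat_lit 131072, m_l_35), (nat_lit 262144, m_l_36)]
/-- network -/
noncomputable def nl_k : List (ℕ × ℕ) := [(nat_lit 262144, m_k_0), (nat_lit 131072, m_k_1), (nat_lit 65536, m_k_2), (nat_lit 32768, m_k_3), (nat_lit 16384, m_k_4), (nat_lit 8192, m_k_5), (nat_lit 4096, m_k_6), (nat_lit 2048, m_k_7), (nat_lit 1024, m_k_8), (nat_lit 512, m_k_9), (nat_lit 256, m_k_10), (nat_lit 128, m_k_11), (nat_lit 64, m_k_12), (nat_lit 32, m_k_13), (nat_lit 16, m_k_14), (nat_lit 8, m_k_15), (nat_lit 4, m_k_16), (nat_lit 2, m_k_17), (nat_lit 1, m_k_18), (nat_lit 2, m_k_19), (nat_lit 4, m_k_20), (nat_lit 8, m_k_21), (nat_lit 16, m_k_22), (nat_lit 32, m_k_23), (nat_lit 64, m_k_24), (nat_lit 128, m_k_25), (nat_lit 256, m_k_26), (nat_lit 512, m_k_27), (nat_lit 1024, m_k_28), (nat_lit 2048, m_k_29), (nat_lit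 4096, m_k_30), (nat_lit 8192, m_k_31), (nat_lit 16384, m_k_32), (nat_lit 32768, m_k_33), (nat_lit 65536, m_k_34), (nat_lit 131072, m_k_35), (nat_lit 262144, m_k_36)]
/-- network -/
noncomputable def nl_a : List (ℕ × ℕ) := [(nat_lit 262144, m_a_0), (nat_lit 131072, m_a_1), (nat_lit 65536, m_a_2), (nat_lit 32768, m_a_3), (nat_lit 16384, m_a_4), (nat_lit 8192, m_a_5), (nat_lit 4096, m_a_6), (nat_lit 2048, m_a_7), (nat_lit 1024, m_a_8), (nat_lit 512, m_a_9), (nat_lit 256, m_a_10), (nat_lit 128, m_a_11), (nat_lit 64, m_a_12), (nat_lit 32, m_a_13), (nat_lit 16, m_a_14), (nat_lit 8, m_a_15), (nat_lit 4, m_a_16), (nat_lit 2, m_a_17), (nat_lit 1, m_a_18), (nat_lit 2, m_a_19), (nat_lit 4, m_a_20), (nat_lit 8, m_a_21), (nat_lit 16, m_a_22), (nat_lit 32, m_a_23), (nat_lit 64, m_a_24), (nat_lit 128, m_a_25), (nat_lit 256, m_a_26), (nat_lit 512, m_a_27), (nat_lit 1024, m_a_28), (nat_lit 2048, m_a_29), (nat_lit 4096, m_a_30),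 (nat_lit 8192, m_a_31), (nat_lit 16384, m_a_32), (nat_lit 32768, m_a_33), (nat_lit 65536, m_a_34), (nat_lit 131072, m_a_35), (nat_lit 262144, m_a_36)]
/-- network -/
noncomputable def nl_b : List (ℕ × ℕ) := [(nat_lit 262144, m_b_0), (nat_lit 131072, m_b_1), (nat_lit 65536, m_b_2), (nat_lit 32768, m_b_3), (nat_lit 16384, m_b_4), (nat_lit 8192, m_b_5), (nat_lit 4096, m_b_6), (nat_lit 2048, m_b_7), (nat_lit 1024, m_b_8), (nat_lit 512, m_b_9), (nat_lit 256, m_b_10), (nat_lit 128, m_b_11), (nat_lit 64, m_b_12), (nat_lit 32, m_b_13), (nat_lit 16, m_b_14), (nat_lit 8, m_b_15), (nat_lit 4, m_b_16), (nat_lit 2, m_b_17), (nat_lit 1, m_b_18), (nat_lit 2, m_b_19), (nat_lit 4, m_b_20), (nat_lit 8, m_b_21), (nat_lit 16, m_b_22), (nat_lit 32, m_b_23), (nat_lit 64, m_b_24), (nat_lit 128, m_b_25), (nat_lit 256, m_b_26), (nat_lit 512, m_b_27), (nat_lit 1024, m_b_28), (nat_lit 2048, m_b_29), (nat_lit 4096, m_b_30), (nat_lit 8192,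 m_b_31), (nat_lit 16384, m_b_32), (nat_lit 32768, m_b_33), (nat_lit 65536, m_b_34), (nat_lit 131072, m_b_35), (nat_lit 262144, m_b_36)]
/-- network -/
noncomputable def nl_c : List (ℕ × ℕ) := [(nat_lit 262144, m_c_0), (nat_lit 131072, m_c_1), (nat_lit 65536, m_c_2), (nat_lit 32768, m_c_3), (nat_lit 16384, m_c_4), (nat_lit 8192, m_c_5), (nat_lit 4096, m_c_6), (nat_lit 2048, m_c_7), (nat_lit 1024, m_c_8), (nat_lit 512, m_c_9), (nat_lit 256, m_c_10), (nat_lit 128, m_c_11), (nat_lit 64, m_c_12), (nat_lit 32, m_c_13), (nat_lit 16, m_c_14), (nat_lit 8, m_c_15), (nat_lit 4, m_c_16), (nat_lit 2, m_c_17), (nat_lit 1, m_c_18), (nat_lit 2, m_c_19), (nat_lit 4, m_c_20), (nat_lit 8, m_c_21), (nat_lit 16, m_c_22), (nat_lit 32, m_c_23), (nat_lit 64, m_c_24), (nat_lit 128, m_c_25), (nat_lit 256, m_c_26), (nat_lit 512, m_c_27), (nat_lit 1024, m_c_28), (nat_lit 2048, m_c_29), (nat_lit 4096, m_c_30), (nat_lit 8192, m_c_31), (nat_lit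 16384, m_c_32), (nat_lit 32768, m_c_33), (nat_lit 65536, m_c_34), (nat_lit 131072, m_c_35), (nat_lit 262144, m_c_36)]
/-- network -/
noncomputable def nl_d : List (ℕ × ℕ) := [(nat_lit 262144, m_d_0), (nat_lit 131072, m_d_1), (nat_lit 65536, m_d_2), (nat_lit 32768, m_d_3), (nat_lit 16384, m_d_4), (nat_lit 8192, m_d_5), (nat_lit 4096, m_d_6), (nat_lit 2048, m_d_7), (nat_lit 1024, m_d_8), (nat_lit 512, m_d_9), (nat_lit 256, m_d_10), (nat_lit 128, m_d_11), (nat_lit 64, m_d_12), (nat_lit 32, m_d_13), (nat_lit 16, m_d_14), (nat_lit 8, m_d_15), (nat_lit 4, m_d_16), (nat_lit 2, m_d_17), (nat_lit 1, m_d_18), (nat_lit 2, m_d_19), (nat_lit 4, m_d_20), (nat_lit 8, m_d_21), (nat_lit 16, m_d_22), (nat_lit 32, m_d_23), (nat_lit 64, m_d_24), (nat_lit 128, m_d_25), (nat_lit 256, m_d_26), (nat_lit 512, m_d_27), (nat_lit 1024, m_d_28), (nat_lit 2048, m_d_29), (nat_lit 4096, m_d_30), (nat_lit 8192, m_d_31), (nat_lit 16384, m_d_32),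 (nat_lit 32768, m_d_33), (nat_lit 65536, m_d_34), (nat_lit 131072, m_d_35), (nat_lit 262144, m_d_36)]
/-- network -/
noncomputable def nl_e : List (ℕ × ℕ) := [(nat_lit 262144, m_e_0), (nat_lit 131072, m_e_1), (nat_lit 65536, m_e_2), (nat_lit 32768, m_e_3), (nat_lit 16384, m_e_4), (nat_lit 8192, m_e_5), (nat_lit 4096, m_e_6), (nat_lit 2048, m_e_7), (nat_lit 1024, m_e_8), (nat_lit 512, m_e_9), (nat_lit 256, m_e_10), (nat_lit 128, m_e_11), (nat_lit 64, m_e_12), (nat_lit 32, m_e_13), (nat_lit 16, m_e_14), (nat_lit 8, m_e_15), (nat_lit 4, m_e_16), (nat_lit 2, m_e_17), (nat_lit 1, m_e_18), (nat_lit 2, m_e_19), (nat_lit 4, m_e_20), (nat_lit 8, m_e_21), (nat_lit 16, m_e_22), (nat_lit 32, m_e_23), (nat_lit 64, m_e_24), (nat_lit 128, m_e_25), (nat_lit 256, m_e_26), (nat_lit 512, m_e_27), (nat_lit 1024, m_e_28), (nat_lit 2048, m_e_29), (nat_lit 4096, m_e_30), (nat_lit 8192, m_e_31), (nat_lit 16384, m_e_32), (nat_lit 32768,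 m_e_33), (nat_lit 65536, m_e_34), (nat_lit 131072, m_e_35), (nat_lit 262144, m_e_36)]
/-- network -/
noncomputable def nl_f : List (ℕ × ℕ) := [(nat_lit 262144, m_f_0), (nat_lit 131072, m_f_1), (nat_lit 65536, m_f_2), (nat_lit 32768, m_f_3), (nat_lit 16384, m_f_4), (nat_lit 8192, m_f_5), (nat_lit 4096, m_f_6), (nat_lit 2048, m_f_7), (nat_lit 1024, m_f_8), (nat_lit 512, m_f_9), (nat_lit 256, m_f_10), (nat_lit 128, m_f_11), (nat_lit 64, m_f_12), (nat_lit 32, m_f_13), (nat_lit 16, m_f_14), (nat_lit 8, m_f_15), (nat_lit 4, m_f_16), (nat_lit 2, m_f_17), (nat_lit 1, m_f_18), (nat_lit 2, m_f_19), (nat_lit 4, m_f_20), (nat_lit 8, m_f_21), (nat_lit 16, m_f_22), (nat_lit 32, m_f_23), (nat_lit 64, m_f_24), (nat_lit 128, m_f_25), (nat_lit 256, m_f_26), (nat_lit 512, m_f_27), (nat_lit 1024, m_f_28), (nat_lit 2048, m_f_29), (nat_lit 4096, m_f_30), (nat_lit 8192, m_f_31), (nat_lit 16384, m_f_32), (nat_lit 32768, m_f_33), (nat_lit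 65536, m_f_34), (nat_lit 131072, m_f_35), (nat_lit 262144, m_f_36)]
/-- network -/
noncomputable def nl_g : List (ℕ × ℕ) := [(nat_lit 262144, m_g_0), (nat_lit 131072, m_g_1), (nat_lit 65536, m_g_2), (nat_lit 32768, m_g_3), (nat_lit 16384, m_g_4), (nat_lit 8192, m_g_5), (nat_lit 4096, m_g_6), (nat_lit 2048, m_g_7), (nat_lit 1024, m_g_8), (nat_lit 512, m_g_9), (nat_lit 256, m_g_10), (nat_lit 128, m_g_11), (nat_lit 64, m_g_12), (nat_lit 32, m_g_13), (nat_lit 16, m_g_14), (nat_lit 8, m_g_15), (nat_lit 4, m_g_16), (nat_lit 2, m_g_17), (nat_lit 1, m_g_18), (nat_lit 2, m_g_19), (nat_lit 4, m_g_20), (nat_lit 8, m_g_21), (nat_lit 16, m_g_22), (nat_lit 32, m_g_23), (nat_lit 64, m_g_24), (nat_lit 128, m_g_25), (nat_lit 256, m_g_26), (nat_lit 512, m_g_27), (nat_lit 1024, m_g_28), (nat_lit 2048, m_g_29), (nat_lit 4096, m_g_30), (nat_lit 8192, m_g_31), (nat_lit 16384, m_g_32), (nat_lit 32768, m_g_33), (nat_lit 65536, m_g_34),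 (nat_lit 131072, m_g_35), (nat_lit 262144, m_g_36)]
/-- network -/
noncomputable def nl_j : List (ℕ × ℕ) := [(nat_lit 262144, m_j_0), (nat_lit 131072, m_j_1), (nat_lit 65536, m_j_2), (nat_lit 32768, m_j_3), (nat_lit 16384, m_j_4), (nat_lit 8192, m_j_5), (nat_lit 4096, m_j_6), (nat_lit 2048, m_j_7), (nat_lit 1024, m_j_8), (nat_lit 512, m_j_9), (nat_lit 256, m_j_10), (nat_lit 128, m_j_11), (nat_lit 64, m_j_12), (nat_lit 32, m_j_13), (nat_lit 16, m_j_14), (nat_lit 8, m_j_15), (nat_lit 4, m_j_16), (nat_lit 2, m_j_17), (nat_lit 1, m_j_18), (nat_lit 2, m_j_19), (nat_lit 4, m_j_20), (nat_lit 8, m_j_21), (nat_lit 16, m_j_22), (nat_lit 32, m_j_23), (nat_lit 64, m_j_24), (nat_lit 128, m_j_25), (nat_lit 256, m_j_26), (nat_lit 512, m_j_27), (nat_lit 1024, m_j_28), (nat_lit 2048, m_j_29), (nat_lit 4096, m_j_30), (nat_lit 8192, m_j_31), (nat_lit 16384, m_j_32), (nat_lit 32768, m_j_33), (nat_lit 65536, m_j_34), (nat_lit 131072,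 m_j_35), (nat_lit 262144, m_j_36)]
/-- network -/
noncomputable def nl_h : List (ℕ × ℕ) := [(nat_lit 262144, m_h_0), (nat_lit 131072, m_h_1), (nat_lit 65536, m_h_2), (nat_lit 32768, m_h_3), (nat_lit 16384, m_h_4), (nat_lit 8192, m_h_5), (nat_lit 4096, m_h_6), (nat_lit 2048, m_h_7), (nat_lit 1024, m_h_8), (nat_lit 512, m_h_9), (nat_lit 256, m_h_10), (nat_lit 128, m_h_11), (nat_lit 64, m_h_12), (nat_lit 32, m_h_13), (nat_lit 16, m_h_14), (nat_lit 8, m_h_15), (nat_lit 4, m_h_16), (nat_lit 2, m_h_17), (nat_lit 1, m_h_18), (nat_lit 2, m_h_19), (nat_lit 4, m_h_20), (nat_lit 8, m_h_21), (nat_lit 16, m_h_22), (nat_lit 32, m_h_23), (nat_lit 64, m_h_24), (nat_lit 128, m_h_25), (nat_lit 256, m_h_26), (nat_lit 512, m_h_27), (nat_lit 1024, m_h_28), (nat_lit 2048, m_h_29), (nat_lit 4096, m_h_30), (nat_lit 8192, m_h_31), (nat_lit 16384, m_h_32), (nat_lit 32768, m_h_33), (nat_lit 65536, m_h_34), (nat_lit 131072, m_h_35), (nat_lit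 262144, m_h_36)]
/-- network -/
noncomputable def nl_i : List (ℕ × ℕ) := [(nat_lit 262144, m_i_0), (nat_lit 131072, m_i_1), (nat_lit 65536, m_i_2), (nat_lit 32768, m_i_3), (nat_lit 16384, m_i_4), (nat_lit 8192, m_i_5), (nat_lit 4096, m_i_6), (nat_lit 2048, m_i_7), (nat_lit 1024, m_i_8), (nat_lit 512, m_i_9), (nat_lit 256, m_i_10), (nat_lit 128, m_i_11), (nat_lit 64, m_i_12), (nat_lit 32, m_i_13), (nat_lit 16, m_i_14), (nat_lit 8, m_i_15), (nat_lit 4, m_i_16), (nat_lit 2, m_i_17), (nat_lit 1, m_i_18), (nat_lit 2, m_i_19), (nat_lit 4, m_i_20), (nat_lit 8, m_i_21), (nat_lit 16, m_i_22), (nat_lit 32, m_i_23), (nat_lit 64, m_i_24), (nat_lit 128, m_i_25), (nat_lit 256, m_i_26), (nat_lit 512, m_i_27), (nat_lit 1024, m_i_28), (nat_lit 2048, m_i_29), (nat_lit 4096, m_i_30), (nat_lit 8192, m_i_31), (nat_lit 16384, m_i_32), (nat_lit 32768, m_i_33), (nat_lit 65536, m_i_34), (nat_lit 131072, m_i_35), (nat_lit 262144, m_i_36)]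
/-- network of a letter -/
noncomputable def net : Lt → ℕ → ℕ
  | .l => runNet nl_l
  | .k => runNet nl_k
  | .a => runNet nl_a
  | .b => runNet nl_b
  | .c => runNet nl_c
  | .d => runNet nl_d
  | .e => runNet nl_e
  | .f => runNet nl_f
  | .g => runNet nl_g
  | .j => runNet nl_j
  | .h => runNet nl_h
  | .i => runNet nl_i
theorem ck_l : chkNet 524288 nl_l = true := by decide +kernel
theorem ck_k : chkNet 524288 nl_k = true := by decide +kernel
theorem ck_a : chkNet 524288 nl_a = true := by decide +kernel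
theorem ck_b : chkNet 524288 nl_b = true := by decide +kernel
theorem ck_c : chkNet 524288 nl_c = true := by decide +kernel
theorem ck_d : chkNet 524288 nl_d = true := by decide +kernel
theorem ck_e : chkNet 524288 nl_e = true := by decide +kernel
theorem ck_f : chkNet 524288 nl_f = true := by decide +kernel
theorem ck_g : chkNet 524288 nl_g = true := by decide +kernel
theorem ck_j : chkNet 524288 nl_j = true := by decide +kernel
theorem ck_h : chkNet 524288 nl_h = true := by decide +kernel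
theorem ck_i : chkNet 524288 nl_i = true := by decide +kernel
theorem bp : ∀ x, ∃ π : Equiv.Perm ℕ, BP (2 ^ 19) (net x) π := by
  have e : (2 : ℕ) ^ 19 = 524288 := by norm_num
  rw [e]
  intro x
  cases x
  · exact runNet_BP ck_l
  · exact runNet_BP ck_k
  · exact runNet_BP ck_a
  · exact runNet_BP ck_b
  · exact runNet_BP ck_c
  · exact runNet_BP ck_d
  · exact runNet_BP ck_e
  · exact runNet_BP ck_f
  · exact runNet_BP ck_g
  · exact runNet_BP ck_j
  · exact runNet_BP ck_h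
  · exact runNet_BP ck_i
/-- the permutation of a letter -/
noncomputable def π (x : Lt) : Equiv.Perm ℕ := (bp x).choose
theorem hbp : ∀ x, BP (2 ^ 19) (net x) (π x) := fun x => (bp x).choose_spec
end H35.NF24
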