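import Cfsg.Agent.Lib.H35.NF24.Net
set_option autoImplicit false
set_option maxRecDepth 100000
set_option linter.all false
set_option Elab.async false
namespace H35.NF24
open H35.TC H35.Net
open H35.TCF24A (Lt inv mm extra subs)
/-- checked pairs -/
def prs : List (Lt × Lt) := [(.l, .l), (.l, .k), (.l, .a), (.l, .b), (.l, .c), (.l, .d), (.l, .e), (.l, .f), (.l, .g), (.l, .j), (.l, .h), (.l, .i), (.k, .k), (.k, .a), (.k, .b), (.k, .c), (.k, .d), (.k, .e), (.k, .f), (.k, .g), (.k, .j), (.k, .h), (.k, .i), (.a, .a), (.a, .b), (.a, .c), (.a, .d), (.a, .e), (.a, .f), (.a, .g), (.a, .j), (.a, .h), (.a, .i), (.b, .b), (.b, .c), (.b, .d), (.b, .e), (.b, .f), (.b, .g), (.b, .j), (.b, .h), (.b, .i), (.c, .c), (.c, .d), (.c, .e), (.c, .f), (.c, .g), (.c, .j), (.c, .h), (.c, .i), (.d, .d), (.d, .e), (.d, .f), (.d, .g), (.d, .j), (.d, .h), (.d, .i), (.e, .e), (.e, .f), (.e, .g), (.e, .j), (.e, .h), (.e, .i), (.f, .f), (.f,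 .g), (.f, .j), (.f, .h), (.f, .i), (.g, .g), (.g, .j), (.g, .h), (.g, .i), (.j, .j), (.j, .h), (.j, .i), (.h, .h), (.h, .i), (.i, .i)]
theorem pr_l_l_0 : chkW net 19 [.l, .l] 1 0 17 = true := by decide +kernel
theorem pr_l_l_1 : chkW net 19 [.l, .l] 1 17 2 = true := by decide +kernel
theorem pr_l_l : chkW net 19 [.l, .l] 1 0 19 = true := (chkW_glue (a := 17) (b := 2) pr_l_l_0 pr_l_l_1)
theorem pr_l_k_0 : chkW net 19 [.l, .k] 3 0 5 = true := by decide +kernel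
theorem pr_l_k_1 : chkW net 19 [.l, .k] 3 5 5 = true := by decide +kernel
theorem pr_l_k_2 : chkW net 19 [.l, .k] 3 10 5 = true := by decide +kernel
theorem pr_l_k_3 : chkW net 19 [.l, .k] 3 15 4 = true := by decide +kernel
theorem pr_l_k : chkW net 19 [.l, .k] 3 0 19 = true := (chkW_glue (a := 15) (b := 4) (chkW_glue (a := 10) (b := 5) (chkW_glue (a := 5) (b := 5) pr_l_k_0 pr_l_k_1) pr_l_k_2) pr_l_k_3)
theorem pr_l_a_0 : chkW net 19 [.l, .a] 2 0 8 = true := by decide +kernel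
theorem pr_l_a_1 : chkW net 19 [.l, .a] 2 8 8 = true := by decide +kernel
theorem pr_l_a_2 : chkW net 19 [.l, .a] 2 16 3 = true := by decide +kernel
theorem pr_l_a : chkW net 19 [.l, .a] 2 0 19 = true := (chkW_glue (a := 16) (b := 3) (chkW_glue (a := 8) (b := 8) pr_l_a_0 pr_l_a_1) pr_l_a_2)
theorem pr_l_b_0 : chkW net 19 [.l, .b] 2 0 8 = true := by decide +kernel
theorem pr_l_b_1 : chkW net 19 [.l, .b] 2 8 8 = true := by decide +kernel
theorem pr_l_b_2 : chkW net 19 [.l, .b] 2 16 3 = true := by decide +kernel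
theorem pr_l_b : chkW net 19 [.l, .b] 2 0 19 = true := (chkW_glue (a := 16) (b := 3) (chkW_glue (a := 8) (b := 8) pr_l_b_0 pr_l_b_1) pr_l_b_2)
theorem pr_l_c_0 : chkW net 19 [.l, .c] 2 0 8 = true := by decide +kernel
theorem pr_l_c_1 : chkW net 19 [.l, .c] 2 8 8 = true := by decide +kernel
theorem pr_l_c_2 : chkW net 19 [.l, .c] 2 16 3 = true := by decide +kernel
theorem pr_l_c : chkW net 19 [.l, .c] 2 0 19 = true := (chkW_glue (a := 16) (b := 3) (chkW_glue (a := 8) (b := 8) pr_l_c_0 pr_l_c_1) pr_l_c_2)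
theorem pr_l_d_0 : chkW net 19 [.l, .d] 2 0 8 = true := by decide +kernel
theorem pr_l_d_1 : chkW net 19 [.l, .d] 2 8 8 = true := by decide +kernel
theorem pr_l_d_2 : chkW net 19 [.l, .d] 2 16 3 = true := by decide +kernel
theorem pr_l_d : chkW net 19 [.l, .d] 2 0 19 = true := (chkW_glue (a := 16) (b := 3) (chkW_glue (a := 8) (b := 8) pr_l_d_0 pr_l_d_1) pr_l_d_2)
theorem pr_l_e_0 : chkW net 19 [.l, .e] 2 0 8 = true := by decide +kernel
theorem pr_l_e_1 : chkW net 19 [.l, .e] 2 8 8 = true := by decide +kernel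
theorem pr_l_e_2 : chkW net 19 [.l, .e] 2 16 3 = true := by decide +kernel
theorem pr_l_e : chkW net 19 [.l, .e] 2 0 19 = true := (chkW_glue (a := 16) (b := 3) (chkW_glue (a := 8) (b := 8) pr_l_e_0 pr_l_e_1) pr_l_e_2)
theorem pr_l_f_0 : chkW net 19 [.l, .f] 2 0 8 = true := by decide +kernel
theorem pr_l_f_1 : chkW net 19 [.l, .f] 2 8 8 = true := by decide +kernel
theorem pr_l_f_2 : chkW net 19 [.l, .f] 2 16 3 = true := by decide +kernel
theorem pr_l_f : chkW net 19 [.l, .f] 2 0 19 = true := (chkW_glue (a := 16) (b := 3) (chkW_glue (a := 8) (b := 8) pr_l_f_0 pr_l_f_1) pr_l_f_2)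
theorem pr_l_g_0 : chkW net 19 [.l, .g] 2 0 8 = true := by decide +kernel
theorem pr_l_g_1 : chkW net 19 [.l, .g] 2 8 8 = true := by decide +kernel
theorem pr_l_g_2 : chkW net 19 [.l, .g] 2 16 3 = true := by decide +kernel
theorem pr_l_g : chkW net 19 [.l, .g] 2 0 19 = true := (chkW_glue (a := 16) (b := 3) (chkW_glue (a := 8) (b := 8) pr_l_g_0 pr_l_g_1) pr_l_g_2)
theorem pr_l_j_0 : chkW net 19 [.l, .j] 2 0 8 = true := by decide +kernel
theorem pr_l_j_1 : chkW net 19 [.l, .j] 2 8 8 = true := by decide +kernel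
theorem pr_l_j_2 : chkW net 19 [.l, .j] 2 16 3 = true := by decide +kernel
theorem pr_l_j : chkW net 19 [.l, .j] 2 0 19 = true := (chkW_glue (a := 16) (b := 3) (chkW_glue (a := 8) (b := 8) pr_l_j_0 pr_l_j_1) pr_l_j_2)
theorem pr_l_h_0 : chkW net 19 [.l, .h] 2 0 8 = true := by decide +kernel
theorem pr_l_h_1 : chkW net 19 [.l, .h] 2 8 8 = true := by decide +kernel
theorem pr_l_h_2 : chkW net 19 [.l, .h] 2 16 3 = true := by decide +kernel
theorem pr_l_h : chkW net 19 [.l, .h] 2 0 19 = true := (chkW_glue (a := 16) (b := 3) (chkW_glue (a := 8) (b := 8) pr_l_h_0 pr_l_h_1) pr_l_h_2)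
theorem pr_l_i_0 : chkW net 19 [.l, .i] 2 0 8 = true := by decide +kernel
theorem pr_l_i_1 : chkW net 19 [.l, .i] 2 8 8 = true := by decide +kernel
theorem pr_l_i_2 : chkW net 19 [.l, .i] 2 16 3 = true := by decide +kernel
theorem pr_l_i : chkW net 19 [.l, .i] 2 0 19 = true := (chkW_glue (a := 16) (b := 3) (chkW_glue (a := 8) (b := 8) pr_l_i_0 pr_l_i_1) pr_l_i_2)
theorem pr_k_k_0 : chkW net 19 [.k, .k] 1 0 17 = true := by decide +kernel
theorem pr_k_k_1 : chkW net 19 [.k, .k] 1 17 2 = true := by decide +kernel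
theorem pr_k_k : chkW net 19 [.k, .k] 1 0 19 = true := (chkW_glue (a := 17) (b := 2) pr_k_k_0 pr_k_k_1)
theorem pr_k_a_0 : chkW net 19 [.k, .a] 3 0 5 = true := by decide +kernel
theorem pr_k_a_1 : chkW net 19 [.k, .a] 3 5 5 = true := by decide +kernel
theorem pr_k_a_2 : chkW net 19 [.k, .a] 3 10 5 = true := by decide +kernel
theorem pr_k_a_3 : chkW net 19 [.k, .a] 3 15 4 = true := by decide +kernel
theorem pr_k_a : chkW net 19 [.k, .a] 3 0 19 = true := (chkW_glue (a := 15) (b := 4) (chkW_glue (a := 10) (b := 5) (chkW_glue (a := 5) (b := 5) pr_k_a_0 pr_k_a_1) pr_k_a_2) pr_k_a_3)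
theorem pr_k_b_0 : chkW net 19 [.k, .b] 2 0 8 = true := by decide +kernel
theorem pr_k_b_1 : chkW net 19 [.k, .b] 2 8 8 = true := by decide +kernel
theorem pr_k_b_2 : chkW net 19 [.k, .b] 2 16 3 = true := by decide +kernel
theorem pr_k_b : chkW net 19 [.k, .b] 2 0 19 = true := (chkW_glue (a := 16) (b := 3) (chkW_glue (a := 8) (b := 8) pr_k_b_0 pr_k_b_1) pr_k_b_2)
theorem pr_k_c_0 : chkW net 19 [.k, .c] 2 0 8 = true := by decide +kernel
theorem pr_k_c_1 : chkW net 19 [.k, .c] 2 8 8 = true := by decide +kernel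
theorem pr_k_c_2 : chkW net 19 [.k, .c] 2 16 3 = true := by decide +kernel
theorem pr_k_c : chkW net 19 [.k, .c] 2 0 19 = true := (chkW_glue (a := 16) (b := 3) (chkW_glue (a := 8) (b := 8) pr_k_c_0 pr_k_c_1) pr_k_c_2)
theorem pr_k_d_0 : chkW net 19 [.k, .d] 2 0 8 = true := by decide +kernel
theorem pr_k_d_1 : chkW net 19 [.k, .d] 2 8 8 = true := by decide +kernel
theorem pr_k_d_2 : chkW net 19 [.k, .d] 2 16 3 = true := by decide +kernel
theorem pr_k_d : chkW net 19 [.k, .d] 2 0 19 = true := (chkW_glue (a := 16) (b := 3) (chkW_glue (a := 8) (b := 8) pr_k_d_0 pr_k_d_1) pr_k_d_2)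
theorem pr_k_e_0 : chkW net 19 [.k, .e] 2 0 8 = true := by decide +kernel
theorem pr_k_e_1 : chkW net 19 [.k, .e] 2 8 8 = true := by decide +kernel
theorem pr_k_e_2 : chkW net 19 [.k, .e] 2 16 3 = true := by decide +kernel
theorem pr_k_e : chkW net 19 [.k, .e] 2 0 19 = true := (chkW_glue (a := 16) (b := 3) (chkW_glue (a := 8) (b := 8) pr_k_e_0 pr_k_e_1) pr_k_e_2)
theorem pr_k_f_0 : chkW net 19 [.k, .f] 2 0 8 = true := by decide +kernel
theorem pr_k_f_1 : chkW net 19 [.k, .f] 2 8 8 = true := by decide +kernel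
theorem pr_k_f_2 : chkW net 19 [.k, .f] 2 16 3 = true := by decide +kernel
theorem pr_k_f : chkW net 19 [.k, .f] 2 0 19 = true := (chkW_glue (a := 16) (b := 3) (chkW_glue (a := 8) (b := 8) pr_k_f_0 pr_k_f_1) pr_k_f_2)
theorem pr_k_g_0 : chkW net 19 [.k, .g] 2 0 8 = true := by decide +kernel
theorem pr_k_g_1 : chkW net 19 [.k, .g] 2 8 8 = true := by decide +kernel
theorem pr_k_g_2 : chkW net 19 [.k, .g] 2 16 3 = true := by decide +kernel
theorem pr_k_g : chkW net 19 [.k, .g] 2 0 19 = true := (chkW_glue (a := 16) (b := 3) (chkW_glue (a := 8) (b := 8) pr_k_g_0 pr_k_g_1) pr_k_g_2)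
theorem pr_k_j_0 : chkW net 19 [.k, .j] 2 0 8 = true := by decide +kernel
theorem pr_k_j_1 : chkW net 19 [.k, .j] 2 8 8 = true := by decide +kernel
theorem pr_k_j_2 : chkW net 19 [.k, .j] 2 16 3 = true := by decide +kernel
theorem pr_k_j : chkW net 19 [.k, .j] 2 0 19 = true := (chkW_glue (a := 16) (b := 3) (chkW_glue (a := 8) (b := 8) pr_k_j_0 pr_k_j_1) pr_k_j_2)
theorem pr_k_h_0 : chkW net 19 [.k, .h] 2 0 8 = true := by decide +kernel
theorem pr_k_h_1 : chkW net 19 [.k, .h] 2 8 8 = true := by decide +kernel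
theorem pr_k_h_2 : chkW net 19 [.k, .h] 2 16 3 = true := by decide +kernel
theorem pr_k_h : chkW net 19 [.k, .h] 2 0 19 = true := (chkW_glue (a := 16) (b := 3) (chkW_glue (a := 8) (b := 8) pr_k_h_0 pr_k_h_1) pr_k_h_2)
theorem pr_k_i_0 : chkW net 19 [.k, .i] 2 0 8 = true := by decide +kernel
theorem pr_k_i_1 : chkW net 19 [.k, .i] 2 8 8 = true := by decide +kernel
theorem pr_k_i_2 : chkW net 19 [.k, .i] 2 16 3 = true := by decide +kernel
theorem pr_k_i : chkW net 19 [.k, .i] 2 0 19 = true := (chkW_glue (a := 16) (b := 3) (chkW_glue (a := 8) (b := 8) pr_k_i_0 pr_k_i_1) pr_k_i_2)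
theorem pr_a_a_0 : chkW net 19 [.a, .a] 1 0 17 = true := by decide +kernel
theorem pr_a_a_1 : chkW net 19 [.a, .a] 1 17 2 = true := by decide +kernel
theorem pr_a_a : chkW net 19 [.a, .a] 1 0 19 = true := (chkW_glue (a := 17) (b := 2) pr_a_a_0 pr_a_a_1)
theorem pr_a_b_0 : chkW net 19 [.a, .b] 3 0 5 = true := by decide +kernel
theorem pr_a_b_1 : chkW net 19 [.a, .b] 3 5 5 = true := by decide +kernel
theorem pr_a_b_2 : chkW net 19 [.a, .b] 3 10 5 = true := by decide +kernel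
theorem pr_a_b_3 : chkW net 19 [.a, .b] 3 15 4 = true := by decide +kernel
theorem pr_a_b : chkW net 19 [.a, .b] 3 0 19 = true := (chkW_glue (a := 15) (b := 4) (chkW_glue (a := 10) (b := 5) (chkW_glue (a := 5) (b := 5) pr_a_b_0 pr_a_b_1) pr_a_b_2) pr_a_b_3)
theorem pr_a_c_0 : chkW net 19 [.a, .c] 2 0 8 = true := by decide +kernel
theorem pr_a_c_1 : chkW net 19 [.a, .c] 2 8 8 = true := by decide +kernel
theorem pr_a_c_2 : chkW net 19 [.a, .c] 2 16 3 = true := by decide +kernel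
theorem pr_a_c : chkW net 19 [.a, .c] 2 0 19 = true := (chkW_glue (a := 16) (b := 3) (chkW_glue (a := 8) (b := 8) pr_a_c_0 pr_a_c_1) pr_a_c_2)
theorem pr_a_d_0 : chkW net 19 [.a, .d] 2 0 8 = true := by decide +kernel
theorem pr_a_d_1 : chkW net 19 [.a, .d] 2 8 8 = true := by decide +kernel
theorem pr_a_d_2 : chkW net 19 [.a, .d] 2 16 3 = true := by decide +kernel
theorem pr_a_d : chkW net 19 [.a, .d] 2 0 19 = true := (chkW_glue (a := 16) (b := 3) (chkW_glue (a := 8) (b := 8) pr_a_d_0 pr_a_d_1) pr_a_d_2)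
theorem pr_a_e_0 : chkW net 19 [.a, .e] 2 0 8 = true := by decide +kernel
theorem pr_a_e_1 : chkW net 19 [.a, .e] 2 8 8 = true := by decide +kernel
theorem pr_a_e_2 : chkW net 19 [.a, .e] 2 16 3 = true := by decide +kernel
theorem pr_a_e : chkW net 19 [.a, .e] 2 0 19 = true := (chkW_glue (a := 16) (b := 3) (chkW_glue (a := 8) (b := 8) pr_a_e_0 pr_a_e_1) pr_a_e_2)
theorem pr_a_f_0 : chkW net 19 [.a, .f] 2 0 8 = true := by decide +kernel
theorem pr_a_f_1 : chkW net 19 [.a, .f] 2 8 8 = true := by decide +kernel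
theorem pr_a_f_2 : chkW net 19 [.a, .f] 2 16 3 = true := by decide +kernel
theorem pr_a_f : chkW net 19 [.a, .f] 2 0 19 = true := (chkW_glue (a := 16) (b := 3) (chkW_glue (a := 8) (b := 8) pr_a_f_0 pr_a_f_1) pr_a_f_2)
theorem pr_a_g_0 : chkW net 19 [.a, .g] 2 0 8 = true := by decide +kernel
theorem pr_a_g_1 : chkW net 19 [.a, .g] 2 8 8 = true := by decide +kernel
theorem pr_a_g_2 : chkW net 19 [.a, .g] 2 16 3 = true := by decide +kernel
theorem pr_a_g : chkW net 19 [.a, .g] 2 0 19 = true := (chkW_glue (a := 16) (b := 3) (chkW_glue (a := 8) (b := 8) pr_a_g_0 pr_a_g_1) pr_a_g_2)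
theorem pr_a_j_0 : chkW net 19 [.a, .j] 2 0 8 = true := by decide +kernel
theorem pr_a_j_1 : chkW net 19 [.a, .j] 2 8 8 = true := by decide +kernel
theorem pr_a_j_2 : chkW net 19 [.a, .j] 2 16 3 = true := by decide +kernel
theorem pr_a_j : chkW net 19 [.a, .j] 2 0 19 = true := (chkW_glue (a := 16) (b := 3) (chkW_glue (a := 8) (b := 8) pr_a_j_0 pr_a_j_1) pr_a_j_2)
theorem pr_a_h_0 : chkW net 19 [.a, .h] 2 0 8 = true := by decide +kernel
theorem pr_a_h_1 : chkW net 19 [.a, .h] 2 8 8 = true := by decide +kernel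
theorem pr_a_h_2 : chkW net 19 [.a, .h] 2 16 3 = true := by decide +kernel
theorem pr_a_h : chkW net 19 [.a, .h] 2 0 19 = true := (chkW_glue (a := 16) (b := 3) (chkW_glue (a := 8) (b := 8) pr_a_h_0 pr_a_h_1) pr_a_h_2)
theorem pr_a_i_0 : chkW net 19 [.a, .i] 2 0 8 = true := by decide +kernel
theorem pr_a_i_1 : chkW net 19 [.a, .i] 2 8 8 = true := by decide +kernel
theorem pr_a_i_2 : chkW net 19 [.a, .i] 2 16 3 = true := by decide +kernel
theorem pr_a_i : chkW net 19 [.a, .i] 2 0 19 = true := (chkW_glue (a := 16) (b := 3) (chkW_glue (a := 8) (b := 8) pr_a_i_0 pr_a_i_1) pr_a_i_2)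
theorem pr_b_b_0 : chkW net 19 [.b, .b] 1 0 17 = true := by decide +kernel
theorem pr_b_b_1 : chkW net 19 [.b, .b] 1 17 2 = true := by decide +kernel
theorem pr_b_b : chkW net 19 [.b, .b] 1 0 19 = true := (chkW_glue (a := 17) (b := 2) pr_b_b_0 pr_b_b_1)
theorem pr_b_c_0 : chkW net 19 [.b, .c] 3 0 5 = true := by decide +kernel
theorem pr_b_c_1 : chkW net 19 [.b, .c] 3 5 5 = true := by decide +kernel
theorem pr_b_c_2 : chkW net 19 [.b, .c] 3 10 5 = true := by decide +kernel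
theorem pr_b_c_3 : chkW net 19 [.b, .c] 3 15 4 = true := by decide +kernel
theorem pr_b_c : chkW net 19 [.b, .c] 3 0 19 = true := (chkW_glue (a := 15) (b := 4) (chkW_glue (a := 10) (b := 5) (chkW_glue (a := 5) (b := 5) pr_b_c_0 pr_b_c_1) pr_b_c_2) pr_b_c_3)
theorem pr_b_d_0 : chkW net 19 [.b, .d] 2 0 8 = true := by decide +kernel
theorem pr_b_d_1 : chkW net 19 [.b, .d] 2 8 8 = true := by decide +kernel
theorem pr_b_d_2 : chkW net 19 [.b, .d] 2 16 3 = true := by decide +kernel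
theorem pr_b_d : chkW net 19 [.b, .d] 2 0 19 = true := (chkW_glue (a := 16) (b := 3) (chkW_glue (a := 8) (b := 8) pr_b_d_0 pr_b_d_1) pr_b_d_2)
theorem pr_b_e_0 : chkW net 19 [.b, .e] 2 0 8 = true := by decide +kernel
theorem pr_b_e_1 : chkW net 19 [.b, .e] 2 8 8 = true := by decide +kernel
theorem pr_b_e_2 : chkW net 19 [.b, .e] 2 16 3 = true := by decide +kernel
theorem pr_b_e : chkW net 19 [.b, .e] 2 0 19 = true := (chkW_glue (a := 16) (b := 3) (chkW_glue (a := 8) (b := 8) pr_b_e_0 pr_b_e_1) pr_b_e_2)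
theorem pr_b_f_0 : chkW net 19 [.b, .f] 2 0 8 = true := by decide +kernel
theorem pr_b_f_1 : chkW net 19 [.b, .f] 2 8 8 = true := by decide +kernel
theorem pr_b_f_2 : chkW net 19 [.b, .f] 2 16 3 = true := by decide +kernel
theorem pr_b_f : chkW net 19 [.b, .f] 2 0 19 = true := (chkW_glue (a := 16) (b := 3) (chkW_glue (a := 8) (b := 8) pr_b_f_0 pr_b_f_1) pr_b_f_2)
theorem pr_b_g_0 : chkW net 19 [.b, .g] 2 0 8 = true := by decide +kernel
theorem pr_b_g_1 : chkW net 19 [.b, .g] 2 8 8 = true := by decide +kernel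
theorem pr_b_g_2 : chkW net 19 [.b, .g] 2 16 3 = true := by decide +kernel
theorem pr_b_g : chkW net 19 [.b, .g] 2 0 19 = true := (chkW_glue (a := 16) (b := 3) (chkW_glue (a := 8) (b := 8) pr_b_g_0 pr_b_g_1) pr_b_g_2)
theorem pr_b_j_0 : chkW net 19 [.b, .j] 2 0 8 = true := by decide +kernel
theorem pr_b_j_1 : chkW net 19 [.b, .j] 2 8 8 = true := by decide +kernel
theorem pr_b_j_2 : chkW net 19 [.b, .j] 2 16 3 = true := by decide +kernel
theorem pr_b_j : chkW net 19 [.b, .j] 2 0 19 = true := (chkW_glue (a := 16) (b := 3) (chkW_glue (a := 8) (b := 8) pr_b_j_0 pr_b_j_1) pr_b_j_2)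
theorem pr_b_h_0 : chkW net 19 [.b, .h] 2 0 8 = true := by decide +kernel
theorem pr_b_h_1 : chkW net 19 [.b, .h] 2 8 8 = true := by decide +kernel
theorem pr_b_h_2 : chkW net 19 [.b, .h] 2 16 3 = true := by decide +kernel
theorem pr_b_h : chkW net 19 [.b, .h] 2 0 19 = true := (chkW_glue (a := 16) (b := 3) (chkW_glue (a := 8) (b := 8) pr_b_h_0 pr_b_h_1) pr_b_h_2)
theorem pr_b_i_0 : chkW net 19 [.b, .i] 2 0 8 = true := by decide +kernel
theorem pr_b_i_1 : chkW net 19 [.b, .i] 2 8 8 = true := by decide +kernel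
theorem pr_b_i_2 : chkW net 19 [.b, .i] 2 16 3 = true := by decide +kernel
theorem pr_b_i : chkW net 19 [.b, .i] 2 0 19 = true := (chkW_glue (a := 16) (b := 3) (chkW_glue (a := 8) (b := 8) pr_b_i_0 pr_b_i_1) pr_b_i_2)
theorem pr_c_c_0 : chkW net 19 [.c, .c] 1 0 17 = true := by decide +kernel
theorem pr_c_c_1 : chkW net 19 [.c, .c] 1 17 2 = true := by decide +kernel
theorem pr_c_c : chkW net 19 [.c, .c] 1 0 19 = true := (chkW_glue (a := 17) (b := 2) pr_c_c_0 pr_c_c_1)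
theorem pr_c_d_0 : chkW net 19 [.c, .d] 3 0 5 = true := by decide +kernel
theorem pr_c_d_1 : chkW net 19 [.c, .d] 3 5 5 = true := by decide +kernel
theorem pr_c_d_2 : chkW net 19 [.c, .d] 3 10 5 = true := by decide +kernel
theorem pr_c_d_3 : chkW net 19 [.c, .d] 3 15 4 = true := by decide +kernel
theorem pr_c_d : chkW net 19 [.c, .d] 3 0 19 = true := (chkW_glue (a := 15) (b := 4) (chkW_glue (a := 10) (b := 5) (chkW_glue (a := 5) (b := 5) pr_c_d_0 pr_c_d_1) pr_c_d_2) pr_c_d_3)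
theorem pr_c_e_0 : chkW net 19 [.c, .e] 2 0 8 = true := by decide +kernel
theorem pr_c_e_1 : chkW net 19 [.c, .e] 2 8 8 = true := by decide +kernel
theorem pr_c_e_2 : chkW net 19 [.c, .e] 2 16 3 = true := by decide +kernel
theorem pr_c_e : chkW net 19 [.c, .e] 2 0 19 = true := (chkW_glue (a := 16) (b := 3) (chkW_glue (a := 8) (b := 8) pr_c_e_0 pr_c_e_1) pr_c_e_2)
theorem pr_c_f_0 : chkW net 19 [.c, .f] 2 0 8 = true := by decide +kernel
theorem pr_c_f_1 : chkW net 19 [.c, .f] 2 8 8 = true := by decide +kernel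
theorem pr_c_f_2 : chkW net 19 [.c, .f] 2 16 3 = true := by decide +kernel
theorem pr_c_f : chkW net 19 [.c, .f] 2 0 19 = true := (chkW_glue (a := 16) (b := 3) (chkW_glue (a := 8) (b := 8) pr_c_f_0 pr_c_f_1) pr_c_f_2)
theorem pr_c_g_0 : chkW net 19 [.c, .g] 2 0 8 = true := by decide +kernel
theorem pr_c_g_1 : chkW net 19 [.c, .g] 2 8 8 = true := by decide +kernel
theorem pr_c_g_2 : chkW net 19 [.c, .g] 2 16 3 = true := by decide +kernel
theorem pr_c_g : chkW net 19 [.c, .g] 2 0 19 = true := (chkW_glue (a := 16) (b := 3) (chkW_glue (a := 8) (b := 8) pr_c_g_0 pr_c_g_1) pr_c_g_2)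
theorem pr_c_j_0 : chkW net 19 [.c, .j] 2 0 8 = true := by decide +kernel
theorem pr_c_j_1 : chkW net 19 [.c, .j] 2 8 8 = true := by decide +kernel
theorem pr_c_j_2 : chkW net 19 [.c, .j] 2 16 3 = true := by decide +kernel
theorem pr_c_j : chkW net 19 [.c, .j] 2 0 19 = true := (chkW_glue (a := 16) (b := 3) (chkW_glue (a := 8) (b := 8) pr_c_j_0 pr_c_j_1) pr_c_j_2)
theorem pr_c_h_0 : chkW net 19 [.c, .h] 2 0 8 = true := by decide +kernel
theorem pr_c_h_1 : chkW net 19 [.c, .h] 2 8 8 = true := by decide +kernel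
theorem pr_c_h_2 : chkW net 19 [.c, .h] 2 16 3 = true := by decide +kernel
theorem pr_c_h : chkW net 19 [.c, .h] 2 0 19 = true := (chkW_glue (a := 16) (b := 3) (chkW_glue (a := 8) (b := 8) pr_c_h_0 pr_c_h_1) pr_c_h_2)
theorem pr_c_i_0 : chkW net 19 [.c, .i] 2 0 8 = true := by decide +kernel
theorem pr_c_i_1 : chkW net 19 [.c, .i] 2 8 8 = true := by decide +kernel
theorem pr_c_i_2 : chkW net 19 [.c, .i] 2 16 3 = true := by decide +kernel
theorem pr_c_i : chkW net 19 [.c, .i] 2 0 19 = true := (chkW_glue (a := 16) (b := 3) (chkW_glue (a := 8) (b := 8) pr_c_i_0 pr_c_i_1) pr_c_i_2)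
theorem pr_d_d_0 : chkW net 19 [.d, .d] 1 0 17 = true := by decide +kernel
theorem pr_d_d_1 : chkW net 19 [.d, .d] 1 17 2 = true := by decide +kernel
theorem pr_d_d : chkW net 19 [.d, .d] 1 0 19 = true := (chkW_glue (a := 17) (b := 2) pr_d_d_0 pr_d_d_1)
theorem pr_d_e_0 : chkW net 19 [.d, .e] 3 0 5 = true := by decide +kernel
theorem pr_d_e_1 : chkW net 19 [.d, .e] 3 5 5 = true := by decide +kernel
theorem pr_d_e_2 : chkW net 19 [.d, .e] 3 10 5 = true := by decide +kernel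
theorem pr_d_e_3 : chkW net 19 [.d, .e] 3 15 4 = true := by decide +kernel
theorem pr_d_e : chkW net 19 [.d, .e] 3 0 19 = true := (chkW_glue (a := 15) (b := 4) (chkW_glue (a := 10) (b := 5) (chkW_glue (a := 5) (b := 5) pr_d_e_0 pr_d_e_1) pr_d_e_2) pr_d_e_3)
theorem pr_d_f_0 : chkW net 19 [.d, .f] 2 0 8 = true := by decide +kernel
theorem pr_d_f_1 : chkW net 19 [.d, .f] 2 8 8 = true := by decide +kernel
theorem pr_d_f_2 : chkW net 19 [.d, .f] 2 16 3 = true := by decide +kernel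
theorem pr_d_f : chkW net 19 [.d, .f] 2 0 19 = true := (chkW_glue (a := 16) (b := 3) (chkW_glue (a := 8) (b := 8) pr_d_f_0 pr_d_f_1) pr_d_f_2)
theorem pr_d_g_0 : chkW net 19 [.d, .g] 2 0 8 = true := by decide +kernel
theorem pr_d_g_1 : chkW net 19 [.d, .g] 2 8 8 = true := by decide +kernel
theorem pr_d_g_2 : chkW net 19 [.d, .g] 2 16 3 = true := by decide +kernel
theorem pr_d_g : chkW net 19 [.d, .g] 2 0 19 = true := (chkW_glue (a := 16) (b := 3) (chkW_glue (a := 8) (b := 8) pr_d_g_0 pr_d_g_1) pr_d_g_2)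
theorem pr_d_j_0 : chkW net 19 [.d, .j] 2 0 8 = true := by decide +kernel
theorem pr_d_j_1 : chkW net 19 [.d, .j] 2 8 8 = true := by decide +kernel
theorem pr_d_j_2 : chkW net 19 [.d, .j] 2 16 3 = true := by decide +kernel
theorem pr_d_j : chkW net 19 [.d, .j] 2 0 19 = true := (chkW_glue (a := 16) (b := 3) (chkW_glue (a := 8) (b := 8) pr_d_j_0 pr_d_j_1) pr_d_j_2)
theorem pr_d_h_0 : chkW net 19 [.d, .h] 3 0 5 = true := by decide +kernel
theorem pr_d_h_1 : chkW net 19 [.d, .h] 3 5 5 = true := by decide +kernel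
theorem pr_d_h_2 : chkW net 19 [.d, .h] 3 10 5 = true := by decide +kernel
theorem pr_d_h_3 : chkW net 19 [.d, .h] 3 15 4 = true := by decide +kernel
theorem pr_d_h : chkW net 19 [.d, .h] 3 0 19 = true := (chkW_glue (a := 15) (b := 4) (chkW_glue (a := 10) (b := 5) (chkW_glue (a := 5) (b := 5) pr_d_h_0 pr_d_h_1) pr_d_h_2) pr_d_h_3)
theorem pr_d_i_0 : chkW net 19 [.d, .i] 2 0 8 = true := by decide +kernel
theorem pr_d_i_1 : chkW net 19 [.d, .i] 2 8 8 = true := by decide +kernel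
theorem pr_d_i_2 : chkW net 19 [.d, .i] 2 16 3 = true := by decide +kernel
theorem pr_d_i : chkW net 19 [.d, .i] 2 0 19 = true := (chkW_glue (a := 16) (b := 3) (chkW_glue (a := 8) (b := 8) pr_d_i_0 pr_d_i_1) pr_d_i_2)
theorem pr_e_e_0 : chkW net 19 [.e, .e] 1 0 17 = true := by decide +kernel
theorem pr_e_e_1 : chkW net 19 [.e, .e] 1 17 2 = true := by decide +kernel
theorem pr_e_e : chkW net 19 [.e, .e] 1 0 19 = true := (chkW_glue (a := 17) (b := 2) pr_e_e_0 pr_e_e_1)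
theorem pr_e_f_0 : chkW net 19 [.e, .f] 3 0 5 = true := by decide +kernel
theorem pr_e_f_1 : chkW net 19 [.e, .f] 3 5 5 = true := by decide +kernel
theorem pr_e_f_2 : chkW net 19 [.e, .f] 3 10 5 = true := by decide +kernel
theorem pr_e_f_3 : chkW net 19 [.e, .f] 3 15 4 = true := by decide +kernel
theorem pr_e_f : chkW net 19 [.e, .f] 3 0 19 = true := (chkW_glue (a := 15) (b := 4) (chkW_glue (a := 10) (b := 5) (chkW_glue (a := 5) (b := 5) pr_e_f_0 pr_e_f_1) pr_e_f_2) pr_e_f_3)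
theorem pr_e_g_0 : chkW net 19 [.e, .g] 2 0 8 = true := by decide +kernel
theorem pr_e_g_1 : chkW net 19 [.e, .g] 2 8 8 = true := by decide +kernel
theorem pr_e_g_2 : chkW net 19 [.e, .g] 2 16 3 = true := by decide +kernel
theorem pr_e_g : chkW net 19 [.e, .g] 2 0 19 = true := (chkW_glue (a := 16) (b := 3) (chkW_glue (a := 8) (b := 8) pr_e_g_0 pr_e_g_1) pr_e_g_2)
theorem pr_e_j_0 : chkW net 19 [.e, .j] 2 0 8 = true := by decide +kernel
theorem pr_e_j_1 : chkW net 19 [.e, .j] 2 8 8 = true := by decide +kernel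
theorem pr_e_j_2 : chkW net 19 [.e, .j] 2 16 3 = true := by decide +kernel
theorem pr_e_j : chkW net 19 [.e, .j] 2 0 19 = true := (chkW_glue (a := 16) (b := 3) (chkW_glue (a := 8) (b := 8) pr_e_j_0 pr_e_j_1) pr_e_j_2)
theorem pr_e_h_0 : chkW net 19 [.e, .h] 2 0 8 = true := by decide +kernel
theorem pr_e_h_1 : chkW net 19 [.e, .h] 2 8 8 = true := by decide +kernel
theorem pr_e_h_2 : chkW net 19 [.e, .h] 2 16 3 = true := by decide +kernel
theorem pr_e_h : chkW net 19 [.e, .h] 2 0 19 = true := (chkW_glue (a := 16) (b := 3) (chkW_glue (a := 8) (b := 8) pr_e_h_0 pr_e_h_1) pr_e_h_2)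
theorem pr_e_i_0 : chkW net 19 [.e, .i] 2 0 8 = true := by decide +kernel
theorem pr_e_i_1 : chkW net 19 [.e, .i] 2 8 8 = true := by decide +kernel
theorem pr_e_i_2 : chkW net 19 [.e, .i] 2 16 3 = true := by decide +kernel
theorem pr_e_i : chkW net 19 [.e, .i] 2 0 19 = true := (chkW_glue (a := 16) (b := 3) (chkW_glue (a := 8) (b := 8) pr_e_i_0 pr_e_i_1) pr_e_i_2)
theorem pr_f_f_0 : chkW net 19 [.f, .f] 1 0 17 = true := by decide +kernel
theorem pr_f_f_1 : chkW net 19 [.f, .f] 1 17 2 = true := by decide +kernel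
theorem pr_f_f : chkW net 19 [.f, .f] 1 0 19 = true := (chkW_glue (a := 17) (b := 2) pr_f_f_0 pr_f_f_1)
theorem pr_f_g_0 : chkW net 19 [.f, .g] 3 0 5 = true := by decide +kernel
theorem pr_f_g_1 : chkW net 19 [.f, .g] 3 5 5 = true := by decide +kernel
theorem pr_f_g_2 : chkW net 19 [.f, .g] 3 10 5 = true := by decide +kernel
theorem pr_f_g_3 : chkW net 19 [.f, .g] 3 15 4 = true := by decide +kernel
theorem pr_f_g : chkW net 19 [.f, .g] 3 0 19 = true := (chkW_glue (a := 15) (b := 4) (chkW_glue (a := 10) (b := 5) (chkW_glue (a := 5) (b := 5) pr_f_g_0 pr_f_g_1) pr_f_g_2) pr_f_g_3)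
theorem pr_f_j_0 : chkW net 19 [.f, .j] 2 0 8 = true := by decide +kernel
theorem pr_f_j_1 : chkW net 19 [.f, .j] 2 8 8 = true := by decide +kernel
theorem pr_f_j_2 : chkW net 19 [.f, .j] 2 16 3 = true := by decide +kernel
theorem pr_f_j : chkW net 19 [.f, .j] 2 0 19 = true := (chkW_glue (a := 16) (b := 3) (chkW_glue (a := 8) (b := 8) pr_f_j_0 pr_f_j_1) pr_f_j_2)
theorem pr_f_h_0 : chkW net 19 [.f, .h] 2 0 8 = true := by decide +kernel
theorem pr_f_h_1 : chkW net 19 [.f, .h] 2 8 8 = true := by decide +kernel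
theorem pr_f_h_2 : chkW net 19 [.f, .h] 2 16 3 = true := by decide +kernel
theorem pr_f_h : chkW net 19 [.f, .h] 2 0 19 = true := (chkW_glue (a := 16) (b := 3) (chkW_glue (a := 8) (b := 8) pr_f_h_0 pr_f_h_1) pr_f_h_2)
theorem pr_f_i_0 : chkW net 19 [.f, .i] 2 0 8 = true := by decide +kernel
theorem pr_f_i_1 : chkW net 19 [.f, .i] 2 8 8 = true := by decide +kernel
theorem pr_f_i_2 : chkW net 19 [.f, .i] 2 16 3 = true := by decide +kernel
theorem pr_f_i : chkW net 19 [.f, .i] 2 0 19 = true := (chkW_glue (a := 16) (b := 3) (chkW_glue (a := 8) (b := 8) pr_f_i_0 pr_f_i_1) pr_f_i_2)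
theorem pr_g_g_0 : chkW net 19 [.g, .g] 1 0 17 = true := by decide +kernel
theorem pr_g_g_1 : chkW net 19 [.g, .g] 1 17 2 = true := by decide +kernel
theorem pr_g_g : chkW net 19 [.g, .g] 1 0 19 = true := (chkW_glue (a := 17) (b := 2) pr_g_g_0 pr_g_g_1)
theorem pr_g_j_0 : chkW net 19 [.g, .j] 3 0 5 = true := by decide +kernel
theorem pr_g_j_1 : chkW net 19 [.g, .j] 3 5 5 = true := by decide +kernel
theorem pr_g_j_2 : chkW net 19 [.g, .j] 3 10 5 = true := by decide +kernel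
theorem pr_g_j_3 : chkW net 19 [.g, .j] 3 15 4 = true := by decide +kernel
theorem pr_g_j : chkW net 19 [.g, .j] 3 0 19 = true := (chkW_glue (a := 15) (b := 4) (chkW_glue (a := 10) (b := 5) (chkW_glue (a := 5) (b := 5) pr_g_j_0 pr_g_j_1) pr_g_j_2) pr_g_j_3)
theorem pr_g_h_0 : chkW net 19 [.g, .h] 2 0 8 = true := by decide +kernel
theorem pr_g_h_1 : chkW net 19 [.g, .h] 2 8 8 = true := by decide +kernel
theorem pr_g_h_2 : chkW net 19 [.g, .h] 2 16 3 = true := by decide +kernel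
theorem pr_g_h : chkW net 19 [.g, .h] 2 0 19 = true := (chkW_glue (a := 16) (b := 3) (chkW_glue (a := 8) (b := 8) pr_g_h_0 pr_g_h_1) pr_g_h_2)
theorem pr_g_i_0 : chkW net 19 [.g, .i] 2 0 8 = true := by decide +kernel
theorem pr_g_i_1 : chkW net 19 [.g, .i] 2 8 8 = true := by decide +kernel
theorem pr_g_i_2 : chkW net 19 [.g, .i] 2 16 3 = true := by decide +kernel
theorem pr_g_i : chkW net 19 [.g, .i] 2 0 19 = true := (chkW_glue (a := 16) (b := 3) (chkW_glue (a := 8) (b := 8) pr_g_i_0 pr_g_i_1) pr_g_i_2)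
theorem pr_j_j_0 : chkW net 19 [.j, .j] 1 0 17 = true := by decide +kernel
theorem pr_j_j_1 : chkW net 19 [.j, .j] 1 17 2 = true := by decide +kernel
theorem pr_j_j : chkW net 19 [.j, .j] 1 0 19 = true := (chkW_glue (a := 17) (b := 2) pr_j_j_0 pr_j_j_1)
theorem pr_j_h_0 : chkW net 19 [.j, .h] 2 0 8 = true := by decide +kernel
theorem pr_j_h_1 : chkW net 19 [.j, .h] 2 8 8 = true := by decide +kernel
theorem pr_j_h_2 : chkW net 19 [.j, .h] 2 16 3 = true := by decide +kernel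
theorem pr_j_h : chkW net 19 [.j, .h] 2 0 19 = true := (chkW_glue (a := 16) (b := 3) (chkW_glue (a := 8) (b := 8) pr_j_h_0 pr_j_h_1) pr_j_h_2)
theorem pr_j_i_0 : chkW net 19 [.j, .i] 2 0 8 = true := by decide +kernel
theorem pr_j_i_1 : chkW net 19 [.j, .i] 2 8 8 = true := by decide +kernel
theorem pr_j_i_2 : chkW net 19 [.j, .i] 2 16 3 = true := by decide +kernel
theorem pr_j_i : chkW net 19 [.j, .i] 2 0 19 = true := (chkW_glue (a := 16) (b := 3) (chkW_glue (a := 8) (b := 8) pr_j_i_0 pr_j_i_1) pr_j_i_2)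
theorem pr_h_h_0 : chkW net 19 [.h, .h] 1 0 17 = true := by decide +kernel
theorem pr_h_h_1 : chkW net 19 [.h, .h] 1 17 2 = true := by decide +kernel
theorem pr_h_h : chkW net 19 [.h, .h] 1 0 19 = true := (chkW_glue (a := 17) (b := 2) pr_h_h_0 pr_h_h_1)
theorem pr_h_i_0 : chkW net 19 [.h, .i] 3 0 5 = true := by decide +kernel
theorem pr_h_i_1 : chkW net 19 [.h, .i] 3 5 5 = true := by decide +kernel
theorem pr_h_i_2 : chkW net 19 [.h, .i] 3 10 5 = true := by decide +kernel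
theorem pr_h_i_3 : chkW net 19 [.h, .i] 3 15 4 = true := by decide +kernel
theorem pr_h_i : chkW net 19 [.h, .i] 3 0 19 = true := (chkW_glue (a := 15) (b := 4) (chkW_glue (a := 10) (b := 5) (chkW_glue (a := 5) (b := 5) pr_h_i_0 pr_h_i_1) pr_h_i_2) pr_h_i_3)
theorem pr_i_i_0 : chkW net 19 [.i, .i] 1 0 17 = true := by decide +kernel
theorem pr_i_i_1 : chkW net 19 [.i, .i] 1 17 2 = true := by decide +kernel
theorem pr_i_i : chkW net 19 [.i, .i] 1 0 19 = true := (chkW_glue (a := 17) (b := 2) pr_i_i_0 pr_i_i_1)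
theorem all_prs : ∀ x y, mm x y = 0 ∨ (x, y) ∈ prs ∨ (y, x) ∈ prs := by
  intro x y
  cases x <;> cases y <;> decide
theorem mm_symm : ∀ x y, mm x y = mm y x := by
  intro x y
  cases x <;> cases y <;> rfl
theorem prs_ok : ∀ p ∈ prs, chkW net 19 [p.1, p.2] (mm p.1 p.2) 0 19 = true := by
  intro p hp
  simp only [prs, List.mem_cons, List.mem_nil_iff, or_false] at hp
  rcases hp with rfl | rfl | rfl | rfl | rfl | rfl | rfl | rfl | rfl | rfl | rfl | rfl | rfl | rfl | rfl | rfl | rfl | rfl | rfl | rfl | rfl | rfl | rfl | rfl | rfl | rfl | rfl | rfl | rfl | rfl | rfl | rfl | rfl | rfl | rfl | rfl | rfl | rfl | rfl | rfl | rfl | rfl | rfl | rfl | rfl | rfl | rfl | rfl | rfl | rfl | rfl | rfl | rfl | rfl | rfl | rfl | rfl | rfl | rfl | rfl | rfl | rfl | rfl | rfl | rfl | rfl | rfl | rfl | rfl | rfl | rfl | rfl | rfl | rfl | rfl | rfl | rfl | rfl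
  · exact pr_l_l
  · exact pr_l_k
  · exact pr_l_a
  · exact pr_l_b
  · exact pr_l_c
  · exact pr_l_d
  · exact pr_l_e
  · exact pr_l_f
  · exact pr_l_g
  · exact pr_l_j
  · exact pr_l_h
  · exact pr_l_i
  · exact pr_k_k
  · exact pr_k_a
  · exact pr_k_b
  · exact pr_k_c
  · exact pr_k_d
  · exact pr_k_e
  · exact pr_k_f
  · exact pr_k_g
  · exact pr_k_j
  · exact pr_k_h
  · exact pr_k_i
  · exact pr_a_a
  · exact pr_a_b
  · exact pr_a_c
  · exact pr_a_d
  · exact pr_a_e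
  · exact pr_a_f
  · exact pr_a_g
  · exact pr_a_j
  · exact pr_a_h
  · exact pr_a_i
  · exact pr_b_b
  · exact pr_b_c
  · exact pr_b_d
  · exact pr_b_e
  · exact pr_b_f
  · exact pr_b_g
  · exact pr_b_j
  · exact pr_b_h
  · exact pr_b_i
  · exact pr_c_c
  · exact pr_c_d
  · exact pr_c_e
  · exact pr_c_f
  · exact pr_c_g
  · exact pr_c_j
  · exact pr_c_h
  · exact pr_c_i
  · exact pr_d_d
  · exact pr_d_e
  · exact pr_d_f
  · exact pr_d_g
  · exact pr_d_j
  · exact pr_d_h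
  · exact pr_d_i
  · exact pr_e_e
  · exact pr_e_f
  · exact pr_e_g
  · exact pr_e_j
  · exact pr_e_h
  · exact pr_e_i
  · exact pr_f_f
  · exact pr_f_g
  · exact pr_f_j
  · exact pr_f_h
  · exact pr_f_i
  · exact pr_g_g
  · exact pr_g_j
  · exact pr_g_h
  · exact pr_g_i
  · exact pr_j_j
  · exact pr_j_h
  · exact pr_j_i
  · exact pr_h_h
  · exact pr_h_i
  · exact pr_i_i
theorem hp : ∀ x y, (π x * π y) ^ mm x y = 1 := cox_of_pairs hbp all_prs mm_symm prs_ok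
theorem ex_0_0 : chkW net 19 [.l, .h, .f, .e, .d, .c, .b, .a, .h, .f, .e, .d, .c, .b, .a, .h, .f, .e, .d, .c, .b, .a, .h, .f, .e, .d, .c, .b, .a, .h, .f, .e, .d, .c, .b, .a, .h, .f, .e, .d, .c, .b, .a, .h, .f, .e, .d, .c, .b, .a, .h, .f, .e, .d, .c, .b, .a, .h, .f, .e, .d, .c, .b, .a] 1 0 1 = true := by decide +kernel
theorem ex_0_1 : chkW net 19 [.l, .h, .f, .e, .d, .c, .b, .a, .h, .f, .e, .d, .c, .b, .a, .h, .f, .e, .d, .c, .b, .a, .h, .f, .e, .d, .c, .b, .a, .h, .f, .e, .d, .c, .b, .a, .h, .f, .e, .d, .c, .b, .a, .h, .f, .e, .d, .c, .b, .a, .h, .f, .e, .d, .c, .b, .a, .h, .f, .e, .d, .c, .b, .a] 1 1 1 = true := by decide +kernel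
theorem ex_0_2 : chkW net 19 [.l, .h, .f, .e, .d, .c, .b, .a, .h, .f, .e, .d, .c, .b, .a, .h, .f, .e, .d, .c, .b, .a, .h, .f, .e, .d, .c, .b, .a, .h, .f, .e, .d, .c, .b, .a, .h, .f, .e, .d, .c, .b, .a, .h, .f, .e, .d, .c, .b, .a, .h, .f, .e, .d, .c, .b, .a, .h, .f, .e, .d, .c, .b, .a] 1 2 1 = true := by decide +kernel
theorem ex_0_3 : chkW net 19 [.l, .h, .f, .e, .d, .c, .b, .a, .h, .f, .e, .d, .c, .b, .a, .h, .f, .e, .d, .c, .b, .a, .h, .f, .e, .d, .c, .b, .a, .h, .f, .e, .d, .c, .b, .a, .h, .f, .e, .d, .c, .b, .a, .h, .f, .e, .d, .c, .b, .a, .h, .f, .e, .d, .c, .b, .a, .h, .f, .e, .d, .c, .b, .a] 1 3 1 = true := by decide +kernel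
theorem ex_0_4 : chkW net 19 [.l, .h, .f, .e, .d, .c, .b, .a, .h, .f, .e, .d, .c, .b, .a, .h, .f, .e, .d, .c, .b, .a, .h, .f, .e, .d, .c, .b, .a, .h, .f, .e, .d, .c, .b, .a, .h, .f, .e, .d, .c, .b, .a, .h, .f, .e, .d, .c, .b, .a, .h, .f, .e, .d, .c, .b, .a, .h, .f, .e, .d, .c, .b, .a] 1 4 1 = true := by decide +kernel
theorem ex_0_5 : chkW net 19 [.l, .h, .f, .e, .d, .c, .b, .a, .h, .f, .e, .d, .c, .b, .a, .h, .f, .e, .d, .c, .b, .a, .h, .f, .e, .d, .c, .b, .a, .h, .f, .e, .d, .c, .b, .a, .h, .f, .e, .d, .c, .b, .a, .h, .f, .e, .d, .c, .b, .a, .h, .f, .e, .d, .c, .b, .a, .h, .f, .e, .d, .c, .b, .a] 1 5 1 = true := by decide +kernel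
theorem ex_0_6 : chkW net 19 [.l, .h, .f, .e, .d, .c, .b, .a, .h, .f, .e, .d, .c, .b, .a, .h, .f, .e, .d, .c, .b, .a, .h, .f, .e, .d, .c, .b, .a, .h, .f, .e, .d, .c, .b, .a, .h, .f, .e, .d, .c, .b, .a, .h, .f, .e, .d, .c, .b, .a, .h, .f, .e, .d, .c, .b, .a, .h, .f, .e, .d, .c, .b, .a] 1 6 1 = true := by decide +kernel
theorem ex_0_7 : chkW net 19 [.l, .h, .f, .e, .d, .c, .b, .a, .h, .f, .e, .d, .c, .b, .a, .h, .f, .e, .d, .c, .b, .a, .h, .f, .e, .d, .c, .b, .a, .h, .f, .e, .d, .c, .b, .a, .h, .f, .e, .d, .c, .b, .a, .h, .f, .e, .d, .c, .b, .a, .h, .f, .e, .d, .c, .b, .a, .h, .f, .e, .d, .c, .b, .a] 1 7 1 = true := by decide +kernel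
theorem ex_0_8 : chkW net 19 [.l, .h, .f, .e, .d, .c, .b, .a, .h, .f, .e, .d, .c, .b, .a, .h, .f, .e, .d, .c, .b, .a, .h, .f, .e, .d, .c, .b, .a, .h, .f, .e, .d, .c, .b, .a, .h, .f, .e, .d, .c, .b, .a, .h, .f, .e, .d, .c, .b, .a, .h, .f, .e, .d, .c, .b, .a, .h, .f, .e, .d, .c, .b, .a] 1 8 1 = true := by decide +kernel
theorem ex_0_9 : chkW net 19 [.l, .h, .f, .e, .d, .c, .b, .a, .h, .f, .e, .d, .c, .b, .a, .h, .f, .e, .d, .c, .b, .a, .h, .f, .e, .d, .c, .b, .a, .h, .f, .e, .d, .c, .b, .a, .h, .f, .e, .d, .c, .b, .a, .h, .f, .e, .d, .c, .b, .a, .h, .f, .e, .d, .c, .b, .a, .h, .f, .e, .d, .c, .b, .a] 1 9 1 = true := by decide +kernel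
theorem ex_0_10 : chkW net 19 [.l, .h, .f, .e, .d, .c, .b, .a, .h, .f, .e, .d, .c, .b, .a, .h, .f, .e, .d, .c, .b, .a, .h, .f, .e, .d, .c, .b, .a, .h, .f, .e, .d, .c, .b, .a, .h, .f, .e, .d, .c, .b, .a, .h, .f, .e, .d, .c, .b, .a, .h, .f, .e, .d, .c, .b, .a, .h, .f, .e, .d, .c, .b, .a] 1 10 1 = true := by decide +kernel
theorem ex_0_11 : chkW net 19 [.l, .h, .f, .e, .d, .c, .b, .a, .h, .f, .e, .d, .c, .b, .a, .h, .f, .e, .d, .c, .b, .a, .h, .f, .e, .d, .c, .b, .a, .h, .f, .e, .d, .c, .b, .a, .h, .f, .e, .d, .c, .b, .a, .h, .f, .e, .d, .c, .b, .a, .h, .f, .e, .d, .c, .b, .a, .h, .f, .e, .d, .c, .b, .a] 1 11 1 = true := by decide +kernel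
theorem ex_0_12 : chkW net 19 [.l, .h, .f, .e, .d, .c, .b, .a, .h, .f, .e, .d, .c, .b, .a, .h, .f, .e, .d, .c, .b, .a, .h, .f, .e, .d, .c, .b, .a, .h, .f, .e, .d, .c, .b, .a, .h, .f, .e, .d, .c, .b, .a, .h, .f, .e, .d, .c, .b, .a, .h, .f, .e, .d, .c, .b, .a, .h, .f, .e, .d, .c, .b, .a] 1 12 1 = true := by decide +kernel
theorem ex_0_13 : chkW net 19 [.l, .h, .f, .e, .d, .c, .b, .a, .h, .f, .e, .d, .c, .b, .a, .h, .f, .e, .d, .c, .b, .a, .h, .f, .e, .d, .c, .b, .a, .h, .f, .e, .d, .c, .b, .a, .h, .f, .e, .d, .c, .b, .a, .h, .f, .e, .d, .c, .b, .a, .h, .f, .e, .d, .c, .b, .a, .h, .f, .e, .d, .c, .b, .a] 1 13 1 = true := by decide +kernel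
theorem ex_0_14 : chkW net 19 [.l, .h, .f, .e, .d, .c, .b, .a, .h, .f, .e, .d, .c, .b, .a, .h, .f, .e, .d, .c, .b, .a, .h, .f, .e, .d, .c, .b, .a, .h, .f, .e, .d, .c, .b, .a, .h, .f, .e, .d, .c, .b, .a, .h, .f, .e, .d, .c, .b, .a, .h, .f, .e, .d, .c, .b, .a, .h, .f, .e, .d, .c, .b, .a] 1 14 1 = true := by decide +kernel
theorem ex_0_15 : chkW net 19 [.l, .h, .f, .e, .d, .c, .b, .a, .h, .f, .e, .d, .c, .b, .a, .h, .f, .e, .d, .c, .b, .a, .h, .f, .e, .d, .c, .b, .a, .h, .f, .e, .d, .c, .b, .a, .h, .f, .e, .d, .c, .b, .a, .h, .f, .e, .d, .c, .b, .a, .h, .f, .e, .d, .c, .b, .a, .h, .f, .e, .d, .c, .b, .a] 1 15 1 = true := by decide +kernel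
theorem ex_0_16 : chkW net 19 [.l, .h, .f, .e, .d, .c, .b, .a, .h, .f, .e, .d, .c, .b, .a, .h, .f, .e, .d, .c, .b, .a, .h, .f, .e, .d, .c, .b, .a, .h, .f, .e, .d, .c, .b, .a, .h, .f, .e, .d, .c, .b, .a, .h, .f, .e, .d, .c, .b, .a, .h, .f, .e, .d, .c, .b, .a, .h, .f, .e, .d, .c, .b, .a] 1 16 1 = true := by decide +kernel
theorem ex_0_17 : chkW net 19 [.l, .h, .f, .e, .d, .c, .b, .a, .h, .f, .e, .d, .c, .b, .a, .h, .f, .e, .d, .c, .b, .a, .h, .f, .e, .d, .c, .b, .a, .h, .f, .e, .d, .c, .b, .a, .h, .f, .e, .d, .c, .b, .a, .h, .f, .e, .d, .c, .b, .a, .h, .f, .e, .d, .c, .b, .a, .h, .f, .e, .d, .c, .b, .a] 1 17 1 = true := by decide +kernel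
theorem ex_0_18 : chkW net 19 [.l, .h, .f, .e, .d, .c, .b, .a, .h, .f, .e, .d, .c, .b, .a, .h, .f, .e, .d, .c, .b, .a, .h, .f, .e, .d, .c, .b, .a, .h, .f, .e, .d, .c, .b, .a, .h, .f, .e, .d, .c, .b, .a, .h, .f, .e, .d, .c, .b, .a, .h, .f, .e, .d, .c, .b, .a, .h, .f, .e, .d, .c, .b, .a] 1 18 1 = true := by decide +kernel
theorem ex_0 : ((([.l, .h, .f, .e, .d, .c, .b, .a, .h, .f, .e, .d, .c, .b, .a, .h, .f, .e, .d, .c, .b, .a, .h, .f, .e, .d, .c, .b, .a, .h, .f, .e, .d, .c, .b, .a, .h, .f, .e, .d, .c, .b, .a, .h, .f, .e, .d, .c, .b, .a, .h, .f, .e, .d, .c, .b, .a, .h, .f, .e, .d, .c, .b, .a] : List Lt).map π).prod) ^ 1 = 1 := by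
  refine pow_eq_one hbp (k := 19) fun r hr => ?_
  rcases Nat.lt_or_ge r 1 with h0 | h0
  · exact chkW_spec ex_0_0 r (by omega) (by omega)
  rcases Nat.lt_or_ge r 2 with h1 | h1
  · exact chkW_spec ex_0_1 r (by omega) (by omega)
  rcases Nat.lt_or_ge r 3 with h2 | h2
  · exact chkW_spec ex_0_2 r (by omega) (by omega)
  rcases Nat.lt_or_ge r 4 with h3 | h3
  · exact chkW_spec ex_0_3 r (by omega) (by omega)
  rcases Nat.lt_or_ge r 5 with h4 | h4
  · exact chkW_spec ex_0_4 r (by omega) (by omega)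
  rcases Nat.lt_or_ge r 6 with h5 | h5
  · exact chkW_spec ex_0_5 r (by omega) (by omega)
  rcases Nat.lt_or_ge r 7 with h6 | h6
  · exact chkW_spec ex_0_6 r (by omega) (by omega)
  rcases Nat.lt_or_ge r 8 with h7 | h7
  · exact chkW_spec ex_0_7 r (by omega) (by omega)
  rcases Nat.lt_or_ge r 9 with h8 | h8
  · exact chkW_spec ex_0_8 r (by omega) (by omega)
  rcases Nat.lt_or_ge r 10 with h9 | h9
  · exact chkW_spec ex_0_9 r (by omega) (by omega)
  rcases Nat.lt_or_ge r 11 with h10 | h10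
  · exact chkW_spec ex_0_10 r (by omega) (by omega)
  rcases Nat.lt_or_ge r 12 with h11 | h11
  · exact chkW_spec ex_0_11 r (by omega) (by omega)
  rcases Nat.lt_or_ge r 13 with h12 | h12
  · exact chkW_spec ex_0_12 r (by omega) (by omega)
  rcases Nat.lt_or_ge r 14 with h13 | h13
  · exact chkW_spec ex_0_13 r (by omega) (by omega)
  rcases Nat.lt_or_ge r 15 with h14 | h14
  · exact chkW_spec ex_0_14 r (by omega) (by omega)
  rcases Nat.lt_or_ge r 16 with h15 | h15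
  · exact chkW_spec ex_0_15 r (by omega) (by omega)
  rcases Nat.lt_or_ge r 17 with h16 | h16
  · exact chkW_spec ex_0_16 r (by omega) (by omega)
  rcases Nat.lt_or_ge r 18 with h17 | h17
  · exact chkW_spec ex_0_17 r (by omega) (by omega)
  exact chkW_spec ex_0_18 r (by omega) (by omega)
end H35.NF24
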